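import Cfsg.Agent.H468.RowMathieu
import Cfsg.Agent.Schreier.McLaughlin
import Cfsg.Agent.Omega.Quasithin.Row.McL
import Cfsg.Agent.S1582
import Cfsg.Agent.S1580
import Cfsg.Agent.S0283
import Cfsg.Agent.CTwoTab.Card
import Cfsg.Agent.CTwoTab.HS
import Cfsg.Agent.KFacts.HS.Sheet
import Cfsg.Agent.NotCT.Orders

/-!
# `NB p` fails in the Conway groups, the McLaughlin and the Higman–Sims group
-/

set_option autoImplicit false

namespace Cfsg.Agent.H468

open Subgroup Cfsg

variable {G : Type*} [Group G]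

theorem norm_V : sqNorm ((Spor.leechV : ↥leechLattice) : GolayPt → ℤ) = 48 := by
  show sqNorm Spor.vecV = 48
  decide

theorem norm_NU : sqNorm ((-Spor.leechU : ↥leechLattice) : GolayPt → ℤ) = 32 := by
  show sqNorm (-Spor.vecU) = 32
  decide

theorem norm_VU : sqNorm ((Spor.leechV - (-Spor.leechU)) : GolayPt → ℤ) = 32 := by
  show sqNorm (Spor.vecV - (-Spor.vecU)) = 32
  decide

/-- `PSU(4, 3)` embeds in `McL` -/
theorem exists_psu_mcl : ∃ (F : Type) (_ : Field F) (_ : Fintype F) (_ : Fintype.card F = 9)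
    (f : PSU 4 F 3 →* Spor.McL), Function.Injective f := by
  let := Fintype.ofFinite (GaloisField 3 2)
  have hF : Fintype.card (GaloisField 3 2) = 9 := by
    rw [← Nat.card_eq_fintype_card, GaloisField.card 3 2 (by norm_num)]
    norm_num
  refine ⟨GaloisField 3 2, inferInstance, inferInstance, hF, ?_⟩
  have h1 := (S1580.result Spor.leechV (-Spor.leechU) norm_V ⟨norm_NU, norm_VU⟩).1
  obtain ⟨x, hx⟩ := Set.nonempty_of_ncard_ne_zero (by rw [h1]; norm_num)
  obtain ⟨e⟩ := S1582.result Spor.leechV (-Spor.leechU) x norm_V ⟨norm_NU, norm_VU⟩ hx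
    (GaloisField 3 2) hF
  have hmem : ∀ g : Co0, g ∈ MulAction.stabilizer ↥Co0 Spor.leechV ⊓
      MulAction.stabilizer ↥Co0 (-Spor.leechU) ⊓ MulAction.stabilizer ↥Co0 x →
      (g : Equiv.Perm leechLattice) ∈ Spor.McL := by
    rintro g ⟨⟨h1, h2⟩, -⟩
    refine ⟨⟨g.2, h1⟩, ?_⟩
    have h2' : g • (-Spor.leechU) = -Spor.leechU := h2
    rw [SporadicA.Co0Mono.smul_neg] at h2'
    exact neg_injective h2'
  let f : ↥(MulAction.stabilizer ↥Co0 Spor.leechV ⊓
      MulAction.stabilizer ↥Co0 (-Spor.leechU) ⊓ MulAction.stabilizer ↥Co0 x) →* Spor.McL :=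
    { toFun := fun g => ⟨((g : Co0) : Equiv.Perm leechLattice), hmem g g.2⟩
      map_one' := rfl
      map_mul' := fun _ _ => rfl }
  refine ⟨f.comp e.symm.toMonoidHom, ?_⟩
  apply Function.Injective.comp (g := f) _ e.symm.injective
  intro a b hab
  apply Subtype.ext
  apply Subtype.ext
  exact congrArg (Subtype.val (p := fun g => g ∈ Spor.McL)) hab

theorem nb_mcl [Finite G] {p : ℕ} [Fact p.Prime] (h : Spor.IsoMcL G) (hp : p = 3 ∨ p = 5) :
    ¬ NB p G := by
  have hcard := NotCT.Orders.mcl h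
  obtain ⟨e⟩ := h
  obtain ⟨F, _, _, hF, f, hf⟩ := exists_psu_mcl
  have := S0283.result (F := F) (q := 3) (by rw [hF]; norm_num) 4 (by norm_num) (by norm_num)
  refine not_of_emb (e.symm.toMonoidHom.comp f) (e.symm.injective.comp hf)
    (CTwoTab.card_psu_four_three hF) hcard (by norm_num) (by norm_num) ?_
  rcases hp with rfl | rfl <;> norm_num

theorem nb_of_mcl [Finite G] {p : ℕ} [Fact p.Prime] (f : Spor.McL →* G) (hf : Function.Injective f)
    {m : ℕ} (hm : Nat.card G = m) (hlt : 898128000 < m) (hp : p ∣ 898128000) :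
    ¬ NB p G := by
  have := Schreier.McLaughlin.isSimple_mcl
  exact not_of_emb f hf Schreier.McLaughlin.card_mcl hm hlt (by norm_num) hp

theorem nb_co3 [Finite G] {p : ℕ} [Fact p.Prime] (h : Spor.IsoCo3 G) (hp : p = 3 ∨ p = 5) :
    ¬ NB p G := by
  have hcard := NotCT.Orders.co3 h
  obtain ⟨e⟩ := h
  refine nb_of_mcl (e.symm.toMonoidHom.comp (inclusion (inf_le_left : Spor.McL ≤ Spor.Co3)))
    (e.symm.injective.comp (inclusion_injective _)) hcard (by norm_num) ?_
  rcases hp with rfl | rfl <;> norm_num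

theorem nb_co2 [Finite G] {p : ℕ} [Fact p.Prime] (h : Spor.IsoCo2 G) (hp : p = 3 ∨ p = 5) :
    ¬ NB p G := by
  have hcard := NotCT.Orders.co2 h
  obtain ⟨e⟩ := h
  refine nb_of_mcl (e.symm.toMonoidHom.comp (inclusion Omega.Quasithin.Row.McL.McL_le_Co2))
    (e.symm.injective.comp (inclusion_injective _)) hcard (by norm_num) ?_
  rcases hp with rfl | rfl <;> norm_num

theorem nb_co1 [Finite G] {p : ℕ} [Fact p.Prime] (h : Spor.IsoCo1 G)
    (hp : p = 3 ∨ p = 5 ∨ p = 7) : ¬ NB p G := by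
  have hcard := NotCT.Orders.co1 h
  obtain ⟨e⟩ := h
  refine nb_of_mcl (e.symm.toMonoidHom.comp Omega.Quasithin.Row.McL.toCo1)
    (e.symm.injective.comp Omega.Quasithin.Row.McL.toCo1_injective) hcard (by norm_num) ?_
  rcases hp with rfl | rfl | rfl <;> norm_num

theorem nb_hs [Finite G] {p : ℕ} [Fact p.Prime] (h : Spor.IsoHS G) (hp : p = 3 ∨ p = 5) :
    ¬ NB p G := by
  have hcard := NotCT.Orders.hs h
  obtain ⟨D⟩ := KFacts.HS.exists_mod h
  refine not_of_inv (by rintro rfl; omega) (t := D.z) hcard D.card_centralizer (by norm_num)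
    ((CTwoTab.HS.compC2_of_iso h).bal D.z ?_) ?_
  · exact orderOf_eq_prime (by rw [pow_two]; exact D.zz) D.z1
  · rcases hp with rfl | rfl <;> norm_num

end Cfsg.Agent.H468
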