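import Mathlib
import Cfsg.Prelude.Def_LocalStructure
import Cfsg.Prelude.Def_Transfer
import Cfsg.Prelude.Def_Local
import Cfsg.Agent.H469.MinClosed

/-!
# Groups all of whose proper subgroups have their elements of order `p` in normal `p`-subgroups

`NB p G`: every `x` of order dividing `p` of a proper subgroup `K` of `G` lies in a normal
`p`-subgroup of `K`.  Criteria for the failure of `NB p G`:

* `not_of_sub` : a proper subgroup `K` with `p ∣ |K|` and `O_p(K) = 1`;
* `not_of_hom` : a nonabelian simple group of order divisible by `p` and less than `|G|` mapping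
  non-trivially to `G`;
* `not_of_quot` : a proper subgroup `K` with a surjection onto a nonabelian simple group of order
  divisible by `p` and kernel of order prime to `p`;
* `not_of_core` : an involution `t` with `O(C(t)) = 1`, `p ∣ |C(t)|`, `p` odd;
* `not_of_cent` : a normal `r`-subgroup `R` of `K < G`, `r ≠ p`, with `C_K(R) ≤ R`.
-/

set_option autoImplicit false

namespace Cfsg.Agent.H468

open Subgroup

/-- Every element of order dividing `p` of a proper subgroup `K` of `G` lies in a normal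
`p`-subgroup of `K`. -/
def NB (p : ℕ) (G : Type*) [Group G] : Prop :=
  ∀ K : Subgroup G, K ≠ ⊤ → ∀ x ∈ K, x ^ p = 1 →
    ∃ T : Subgroup G, T ≤ K ∧ (∀ k ∈ K, ∀ t ∈ T, k * t * k⁻¹ ∈ T) ∧ IsPGroup p T ∧ x ∈ T

variable {G : Type*} [Group G]

theorem NB.congr {H : Type*} [Group H] {p : ℕ} (e : G ≃* H) (h : NB p G) : NB p H := by
  intro K hK x hx hxp
  obtain ⟨T, hTK, hn, hT, hxT⟩ := h (K.comap e.toMonoidHom) (by
    intro hcon
    apply hK
    rw [eq_top_iff]
    intro y _
    have h1 : e.symm y ∈ K.comap e.toMonoidHom := by rw [hcon]; exact mem_top _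
    have h2 : e (e.symm y) ∈ K := h1
    rwa [e.apply_symm_apply] at h2) (e.symm x) (by
      change e (e.symm x) ∈ K
      rwa [e.apply_symm_apply]) (by rw [← map_pow, hxp, map_one])
  refine ⟨T.map e.toMonoidHom, ?_, ?_, hT.map _, ⟨e.symm x, hxT, e.apply_symm_apply x⟩⟩
  · rw [map_le_iff_le_comap]; exact hTK
  · rintro k hk _ ⟨t, ht, rfl⟩
    have hk' : e.symm k ∈ K.comap e.toMonoidHom := by
      change e (e.symm k) ∈ K
      rwa [e.apply_symm_apply]
    refine ⟨_, hn _ hk' t ht, ?_⟩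
    change e (e.symm k * t * (e.symm k)⁻¹) = k * e t * k⁻¹
    rw [map_mul, map_mul, map_inv, e.apply_symm_apply]

/-- The proper subgroups of `G` are `p`-closed. -/
theorem NB.of_closed [Finite G] {p : ℕ} [hp : Fact p.Prime]
    (h : ∀ H : Subgroup G, H ≠ ⊤ → Cfsg.IsPClosed p ↥H) : NB p G := by
  intro K hK x hx hxp
  obtain ⟨S, hS, hmax⟩ := H469.MinClosed.exists_of_isPClosed (h K hK)
  refine ⟨(S : Subgroup K).map K.subtype, map_subtype_le _, ?_, S.isPGroup'.map _, ?_⟩
  · rintro k hk _ ⟨t, ht, rfl⟩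
    exact ⟨_, hS.conj_mem t ht ⟨k, hk⟩, rfl⟩
  · have h1 : IsPGroup p (zpowers (⟨x, hx⟩ : K)) := by
      rintro ⟨y, hy⟩
      obtain ⟨n, rfl⟩ := mem_zpowers_iff.mp hy
      refine ⟨1, ?_⟩
      apply Subtype.ext
      apply Subtype.ext
      change (x ^ n) ^ p ^ 1 = 1
      rw [pow_one, ← zpow_natCast, ← zpow_mul, mul_comm, zpow_mul, zpow_natCast, hxp, one_zpow]
    exact ⟨⟨x, hx⟩, hmax _ h1 (mem_zpowers _), rfl⟩

/-- In the proper subgroups of `G` the elements of order dividing `p` form a subgroup. -/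
theorem NB.of_omega {p : ℕ}
    (h : ∀ K : Subgroup G, K ≠ ⊤ → (∃ H : Subgroup ↥K, (H : Set ↥K) = {g : ↥K | g ^ p = 1})) :
    NB p G := by
  intro K hK x hx hxp
  obtain ⟨H, hH⟩ := h K hK
  have hmem : ∀ y : K, y ∈ H ↔ y ^ p = 1 := by
    intro y
    change y ∈ (H : Set K) ↔ _
    rw [hH]
    rfl
  refine ⟨H.map K.subtype, map_subtype_le _, ?_, ?_, ⟨⟨x, hx⟩, ?_, rfl⟩⟩
  · rintro k hk _ ⟨t, ht, rfl⟩
    refine ⟨⟨k, hk⟩ * t * ⟨k, hk⟩⁻¹, ?_, rfl⟩
    have ht' : t ^ p = 1 := (hmem t).mp ht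
    exact (hmem _).mpr (by rw [conj_pow, ht', mul_one, mul_inv_cancel])
  · rintro ⟨_, t, ht, rfl⟩
    refine ⟨1, Subtype.ext ?_⟩
    rw [pow_one]
    have ht' : t ^ p = 1 := (hmem t).mp ht
    change (t : G) ^ p = 1
    exact congrArg Subtype.val ht'
  · exact (hmem _).mpr (Subtype.ext hxp)

/-- **A proper subgroup `K` with `p ∣ |K|` and `O_p(K) = 1`.** -/
theorem not_of_sub {p : ℕ} [hp : Fact p.Prime] (K : Subgroup G) [Finite K] (hK : K ≠ ⊤)
    (hpK : p ∣ Nat.card K) (h : ∀ T : Subgroup G, T ≤ K → (∀ k ∈ K, ∀ t ∈ T, k * t * k⁻¹ ∈ T) →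
      IsPGroup p T → T = ⊥) : ¬ NB p G := by
  intro hNB
  obtain ⟨x, hx⟩ := exists_prime_orderOf_dvd_card' p hpK
  have hxp : (x : G) ^ p = 1 := by
    rw [← hx]
    exact congrArg Subtype.val (pow_orderOf_eq_one x)
  obtain ⟨T, hTK, hn, hT, hxT⟩ := hNB K hK x x.2 hxp
  rw [h T hTK hn hT, mem_bot] at hxT
  have h1 : x = 1 := Subtype.ext hxT
  rw [h1, orderOf_one] at hx
  exact hp.out.one_lt.ne hx

/-- **A simple group mapping to `G`.** -/
theorem not_of_hom [Finite G] {p : ℕ} [hp : Fact p.Prime] {S : Type*} [Group S] [hS : IsSimpleGroup S]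
    (hna : ¬ ∀ a b : S, a * b = b * a) (f : S →* G) (hf : f ≠ 1) (hpS : p ∣ Nat.card S)
    (hlt : Nat.card S < Nat.card G) : ¬ NB p G := by
  have hinj : Function.Injective f := by
    rw [← MonoidHom.ker_eq_bot_iff]
    rcases hS.eq_bot_or_eq_top_of_normal f.ker inferInstance with h | h
    · exact h
    · exact absurd (MonoidHom.ker_eq_top_iff.mp h) hf
  have hcard : Nat.card f.range = Nat.card S := Nat.card_congr (MonoidHom.ofInjective hinj).symm.toEquiv
  refine not_of_sub f.range ?_ (by rw [hcard]; exact hpS) ?_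
  · intro h
    rw [h, card_top] at hcard
    omega
  · intro T hT hn hTp
    have h1 : (T.comap f).Normal := by
      refine ⟨fun s hs g => ?_⟩
      change f (g * s * g⁻¹) ∈ T
      rw [map_mul, map_mul, map_inv]
      exact hn _ ⟨g, rfl⟩ _ hs
    rcases hS.eq_bot_or_eq_top_of_normal _ h1 with h | h
    · rw [eq_bot_iff]
      intro t ht
      obtain ⟨s, rfl⟩ := hT ht
      have h2 : s ∈ T.comap f := ht
      rw [h, mem_bot] at h2
      rw [h2, map_one]
      exact one_mem _
    · exfalso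
      have hSf : Finite S := Finite.of_injective f hinj
      have hSp : IsPGroup p S := by
        intro s
        have h2 : s ∈ T.comap f := by rw [h]; exact mem_top s
        obtain ⟨k, hk⟩ := hTp ⟨f s, h2⟩
        refine ⟨k, hinj ?_⟩
        rw [map_pow, map_one]
        exact congrArg Subtype.val hk
      apply hna
      have hcen : Nontrivial (center S) := hSp.center_nontrivial
      rcases hS.eq_bot_or_eq_top_of_normal (center S) inferInstance with h3 | h3
      · exact absurd h3 ((nontrivial_iff_ne_bot _).mp hcen)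
      · intro a b
        have : b ∈ center S := by rw [h3]; exact mem_top b
        exact (mem_center_iff.mp this a)

/-- **A proper subgroup with a simple quotient of order divisible by `p` and kernel of order prime
to `p`.** -/
theorem not_of_quot {p : ℕ} [hp : Fact p.Prime] {K : Subgroup G} [Finite K] (hK : K ≠ ⊤)
    {S : Type*} [Group S] [hS : IsSimpleGroup S] (hna : ¬ ∀ a b : S, a * b = b * a) (f : K →* S)
    (hf : Function.Surjective f) (hker : ¬ p ∣ Nat.card f.ker) (hpS : p ∣ Nat.card S) : ¬ NB p G := by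
  have hSf : Finite S := Finite.of_surjective f hf
  refine not_of_sub K hK (hpS.trans (card_dvd_of_surjective f hf)) ?_
  intro T hTK hn hTp
  have hT' : IsPGroup p (T.subgroupOf K) := hTp.comap_of_injective _ (subtype_injective _)
  have hTn : (T.subgroupOf K).Normal := by
    refine ⟨fun t ht k => ?_⟩
    exact hn k k.2 t ht
  have h1 : ((T.subgroupOf K).map f).Normal := hTn.map f hf
  have hle : T.subgroupOf K ≤ f.ker := by
    rcases hS.eq_bot_or_eq_top_of_normal _ h1 with h | h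
    · exact (Subgroup.map_eq_bot_iff _).mp h
    · exfalso
      apply hna
      have hSp : IsPGroup p S := by
        have h2 : IsPGroup p (⊤ : Subgroup S) := by rw [← h]; exact hT'.map f
        intro s
        obtain ⟨k, hk⟩ := h2 ⟨s, mem_top s⟩
        exact ⟨k, congrArg Subtype.val hk⟩
      have hcen : Nontrivial (center S) := hSp.center_nontrivial
      rcases hS.eq_bot_or_eq_top_of_normal (center S) inferInstance with h3 | h3
      · exact absurd h3 ((nontrivial_iff_ne_bot _).mp hcen)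
      · intro a b
        have : b ∈ center S := by rw [h3]; exact mem_top b
        exact (mem_center_iff.mp this a)
  have h2 : T.subgroupOf K = ⊥ := by
    by_contra hne
    have hnt : Nontrivial (T.subgroupOf K) := (nontrivial_iff_ne_bot _).mpr hne
    obtain ⟨n, hn0, hn⟩ := (IsPGroup.nontrivial_iff_card hT').mp hnt
    apply hker
    have h3 : p ∣ Nat.card (T.subgroupOf K) := by rw [hn]; exact dvd_pow_self p hn0.ne'
    exact h3.trans (card_dvd_of_le hle)
  rw [eq_bot_iff]
  intro t ht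
  have h3 : (⟨t, hTK ht⟩ : K) ∈ T.subgroupOf K := ht
  rw [h2, mem_bot] at h3
  exact congrArg Subtype.val h3

/-- **A normal `r`-subgroup `R` of `K < G`, `r ≠ p`, with `C_K(R) ≤ R`.** -/
theorem not_of_cent {p r : ℕ} [hp : Fact p.Prime] (hpr : p ≠ r) (hr : r.Prime) {K R : Subgroup G}
    [Finite K] (hK : K ≠ ⊤) (hpK : p ∣ Nat.card K) (hRK : R ≤ K)
    (hRn : ∀ k ∈ K, ∀ t ∈ R, k * t * k⁻¹ ∈ R)
    (hR : IsPGroup r R) (hC : ∀ c ∈ K, (∀ t ∈ R, c * t = t * c) → c ∈ R) : ¬ NB p G := by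
  refine not_of_sub K hK hpK ?_
  intro T hTK hn hTp
  have hdisj : ∀ g, g ∈ T → g ∈ R → g = 1 := by
    intro g hgT hgR
    obtain ⟨k, hk⟩ := hTp ⟨g, hgT⟩
    obtain ⟨l, hl⟩ := hR ⟨g, hgR⟩
    have hk' : g ^ p ^ k = 1 := congrArg Subtype.val hk
    have hl' : g ^ r ^ l = 1 := congrArg Subtype.val hl
    have h1 : orderOf g ∣ Nat.gcd (p ^ k) (r ^ l) :=
      Nat.dvd_gcd (orderOf_dvd_of_pow_eq_one hk') (orderOf_dvd_of_pow_eq_one hl')
    have h2 : Nat.gcd (p ^ k) (r ^ l) = 1 :=
      Nat.Coprime.pow k l ((Nat.coprime_primes hp.out hr).mpr hpr)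
    rw [h2, Nat.dvd_one, orderOf_eq_one_iff] at h1
    exact h1
  rw [eq_bot_iff]
  intro t ht
  have hcomm : ∀ s ∈ R, t * s = s * t := by
    intro s hs
    have h1 : t * s * t⁻¹ * s⁻¹ ∈ T := by
      have h2 : t * s * t⁻¹ * s⁻¹ = t * (s * t⁻¹ * s⁻¹) := by group
      rw [h2]
      exact T.mul_mem ht (hn s (hRK hs) _ (T.inv_mem ht))
    have h2 : t * s * t⁻¹ * s⁻¹ ∈ R := R.mul_mem (hRn t (hTK ht) s hs) (R.inv_mem hs)
    have h3 := hdisj _ h1 h2
    rw [mul_inv_eq_one, mul_inv_eq_iff_eq_mul] at h3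
    exact h3
  exact hdisj t ht (hC t (hTK ht) hcomm)

/-- **An involution `t` with `O(C(t)) = 1` and `p ∣ |C(t)|`, `p` odd.** -/
theorem not_of_core [Finite G] {p : ℕ} [hp : Fact p.Prime] (hp2 : p ≠ 2) {t : G}
    (ht : centralizer ({t} : Set G) ≠ ⊤) (hO : Cfsg.centralizerPPrimeCore 2 t = ⊥)
    (hd : p ∣ Nat.card (centralizer ({t} : Set G))) : ¬ NB p G := by
  refine not_of_sub (centralizer ({t} : Set G)) ht hd ?_
  intro T hTK hn hTp
  have hTn : (T.subgroupOf (centralizer ({t} : Set G))).Normal := by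
    refine ⟨fun s hs k => ?_⟩
    exact hn k k.2 s hs
  have hT' : IsPGroup p (T.subgroupOf (centralizer ({t} : Set G))) :=
    hTp.comap_of_injective _ (subtype_injective _)
  have h1 : T.subgroupOf (centralizer ({t} : Set G)) ≤
      Cfsg.pPrimeCore 2 (centralizer ({t} : Set G)) := by
    apply le_sSup
    refine ⟨hTn, ?_⟩
    obtain ⟨n, hn⟩ := IsPGroup.iff_card.mp hT'
    rw [hn]
    exact Nat.Coprime.pow_left n ((Nat.coprime_primes hp.out Nat.prime_two).mpr hp2)
  have h2 : T ≤ Cfsg.centralizerPPrimeCore 2 t := by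
    intro x hx
    exact ⟨⟨x, hTK hx⟩, h1 hx, rfl⟩
  rw [hO] at h2
  exact le_bot_iff.mp h2

end Cfsg.Agent.H468
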