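import Cfsg.Agent.H468.NB
import Cfsg.Agent.H468.SqDvd
import Cfsg.Agent.S3870

/-!
# Minimal non-`p`-closed groups: reduction of S3871 to simple groups with `NB p G`, `p` odd
-/

set_option autoImplicit false

namespace Cfsg.Agent.H468

open Subgroup Cfsg.Agent.H469

/-- Subgroups of order `p * q ^ e`: Sylow `p`-subgroups intersect trivially. -/
theorem inf_eq_bot_of_not_sq {G : Type*} [Group G] [Finite G] {p : ℕ} [hp : Fact p.Prime]
    (h : ¬ p ^ 2 ∣ Nat.card G) (P Q : Sylow p G) (hPQ : P ≠ Q) :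
    (P : Subgroup G) ⊓ (Q : Subgroup G) = ⊥ := by
  have hcard : ∀ R : Sylow p G, Nat.card (R : Subgroup G) ∣ p := by
    intro R
    obtain ⟨n, hn⟩ := IsPGroup.iff_card.mp R.isPGroup'
    have h1 : p ^ n ∣ Nat.card G := by rw [← hn]; exact (R : Subgroup G).card_subgroup_dvd_card
    rcases Nat.lt_or_ge n 2 with h2 | h2
    · rw [hn]
      have h3 : n = 0 ∨ n = 1 := by omega
      rcases h3 with rfl | rfl
      · rw [pow_zero]; exact one_dvd _
      · rw [pow_one]
    · exact absurd ((pow_dvd_pow p h2).trans h1) h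
  by_contra hne
  have h1 : Nat.card ((P : Subgroup G) ⊓ (Q : Subgroup G) : Subgroup G) ≠ 1 := by
    intro h2
    exact hne (Subgroup.card_eq_one.mp h2)
  have h2 : ∀ R : Sylow p G, (P : Subgroup G) ⊓ (Q : Subgroup G) ≤ R →
      (P : Subgroup G) ⊓ (Q : Subgroup G) = R := by
    intro R hR
    have h3 := Subgroup.card_dvd_of_le hR
    have h4 := (Nat.dvd_prime hp.out).mp (h3.trans (hcard R))
    have h5 : Nat.card ((P : Subgroup G) ⊓ (Q : Subgroup G) : Subgroup G) = p := h4.resolve_left h1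
    apply Subgroup.eq_of_le_of_card_ge hR
    rw [h5]
    exact Nat.le_of_dvd hp.out.pos (hcard R)
  exact hPQ (Sylow.ext ((h2 P inf_le_left).symm.trans (h2 Q inf_le_right)))

/-- A simple group generated by two involutions does not exist. -/
theorem closure_ne_top {G : Type*} [Group G] [hs : IsSimpleGroup G]
    {a b : G} (haa : a * a = 1) (hbb : b * b = 1) (hab : a ≠ b)
    (hna : ¬ ∀ x y : G, x * y = y * x) : closure ({a, b} : Set G) ≠ ⊤ := by
  intro htop
  have ha' : a⁻¹ = a := inv_eq_of_mul_eq_one_left haa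
  have hb' : b⁻¹ = b := inv_eq_of_mul_eq_one_left hbb
  have hN : (zpowers (a * b)).Normal := by
    rw [← normalizer_eq_top_iff, eq_top_iff, ← htop, closure_le]
    have key : ∀ c ∈ ({a, b} : Set G), c * (a * b) * c⁻¹ = (a * b)⁻¹ := by
      rintro c (rfl | rfl)
      · rw [mul_inv_rev, hb', ha', ← mul_assoc, haa, one_mul]
      · rw [mul_inv_rev, hb', ha', mul_assoc, mul_assoc, hbb, mul_one]
    intro c hc
    change c ∈ normalizer _
    rw [mem_normalizer_iff]
    have hz : ∀ n : ℤ, c * (a * b) ^ n * c⁻¹ = (a * b) ^ (-n) := by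
      intro n
      rw [← conj_zpow, key c hc, inv_zpow, zpow_neg]
    intro x
    constructor
    · intro hx
      obtain ⟨n, rfl⟩ := mem_zpowers_iff.mp hx
      rw [hz]
      exact zpow_mem (mem_zpowers _) _
    · intro hx
      obtain ⟨n, hn⟩ := mem_zpowers_iff.mp hx
      have h1 : x = c⁻¹ * (a * b) ^ n * c := by rw [hn]; group
      have h2 : c⁻¹ * (a * b) ^ n * c = (a * b) ^ (-n) := by
        have h3 := hz (-n)
        rw [neg_neg] at h3
        rw [← h3]
        group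
      rw [h1, h2]
      exact zpow_mem (mem_zpowers _) _
  rcases hs.eq_bot_or_eq_top_of_normal _ hN with h | h
  · rw [zpowers_eq_bot, mul_eq_one_iff_eq_inv, hb'] at h
    exact hab h
  · apply hna
    intro x y
    have hx : x ∈ zpowers (a * b) := by rw [h]; exact mem_top _
    have hy : y ∈ zpowers (a * b) := by rw [h]; exact mem_top _
    obtain ⟨n, rfl⟩ := mem_zpowers_iff.mp hx
    obtain ⟨m, rfl⟩ := mem_zpowers_iff.mp hy
    rw [← zpow_add, ← zpow_add, add_comm]

/-- In the simple case `p ≠ 2`. -/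
theorem false_two {G : Type*} [Group G] [Finite G] [hs : IsSimpleGroup G]
    [h2 : Fact (Nat.Prime 2)]
    (hnc : ¬ Cfsg.IsPClosed 2 G) (hsub : ∀ H : Subgroup G, H ≠ ⊤ → Cfsg.IsPClosed 2 ↥H) : False := by
  have hTI := Cfsg.Agent.S3870.sylow_ti hsub
  have hna : ¬ ∀ x y : G, x * y = y * x := fun h => hnc (MinClosed.isPClosed_of_isMulCommutative h)
  obtain ⟨P, Q, hPQ⟩ : ∃ P Q : Sylow 2 G, P ≠ Q := by
    by_contra hcon
    push Not at hcon
    apply hnc
    intro P
    have : Subsingleton (Sylow 2 G) := ⟨hcon⟩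
    exact Sylow.normal_of_subsingleton P
  have hdvd : 2 ∣ Nat.card G := by
    by_contra hd
    apply hPQ
    have h1 : ∀ R : Sylow 2 G, (R : Subgroup G) = ⊥ := by
      intro R
      obtain ⟨n, hn⟩ := IsPGroup.iff_card.mp R.isPGroup'
      rcases Nat.eq_zero_or_pos n with h0 | h0
      · rw [h0, pow_zero] at hn
        exact Subgroup.card_eq_one.mp hn
      · exfalso
        apply hd
        exact (dvd_pow_self 2 h0.ne').trans (by rw [← hn]; exact card_subgroup_dvd_card _)
    exact Sylow.ext ((h1 P).trans (h1 Q).symm)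
  have hinv : ∀ R : Sylow 2 G, ∃ t ∈ R, t * t = 1 ∧ t ≠ 1 := by
    intro R
    obtain ⟨t, ht⟩ := exists_prime_orderOf_dvd_card' (G := (R : Subgroup G)) 2
      (R.dvd_card_of_dvd_card hdvd)
    refine ⟨t, t.2, ?_, ?_⟩
    · have h1 : t ^ 2 = 1 := orderOf_dvd_iff_pow_eq_one.mp (by rw [ht])
      rw [pow_two] at h1
      exact congrArg Subtype.val h1
    · intro h1
      have h3 : t = 1 := Subtype.ext h1
      rw [h3, orderOf_one] at ht
      omega
  obtain ⟨a, haP, haa, ha1⟩ := hinv P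
  obtain ⟨b, hbQ, hbb, hb1⟩ := hinv Q
  have hab : a ≠ b := by
    rintro rfl
    have h1 : a ∈ (P : Subgroup G) ⊓ (Q : Subgroup G) := ⟨haP, hbQ⟩
    rw [hTI P Q hPQ, mem_bot] at h1
    exact ha1 h1
  have hD := closure_ne_top haa hbb hab hna
  obtain ⟨S, hS, hmax⟩ := MinClosed.exists_of_isPClosed (hsub _ hD)
  obtain ⟨R, hR⟩ := (S.isPGroup'.map (closure ({a, b} : Set G)).subtype).exists_le_sylow
  have hmem : ∀ c : G, c ∈ closure ({a, b} : Set G) → c * c = 1 → c ∈ R := by
    intro c hc hcc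
    have h1 : IsPGroup 2 (zpowers (⟨c, hc⟩ : closure ({a, b} : Set G))) := by
      rintro ⟨y, hy⟩
      obtain ⟨n, rfl⟩ := mem_zpowers_iff.mp hy
      refine ⟨1, ?_⟩
      apply Subtype.ext
      apply Subtype.ext
      change (c ^ n) ^ 2 ^ 1 = 1
      rw [pow_one, ← zpow_natCast, ← zpow_mul, mul_comm, zpow_mul, zpow_natCast, pow_two, hcc,
        one_zpow]
    exact hR ⟨⟨c, hc⟩, hmax _ h1 (mem_zpowers _), rfl⟩
  have haR : a ∈ R := hmem a (subset_closure (by simp)) haa
  have hbR : b ∈ R := hmem b (subset_closure (by simp)) hbb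
  have hPR : P = R := by
    by_contra hne
    have h1 : a ∈ (P : Subgroup G) ⊓ (R : Subgroup G) := ⟨haP, haR⟩
    rw [hTI P R hne, mem_bot] at h1
    exact ha1 h1
  have hQR : Q = R := by
    by_contra hne
    have h1 : b ∈ (Q : Subgroup G) ⊓ (R : Subgroup G) := ⟨hbQ, hbR⟩
    rw [hTI Q R hne, mem_bot] at h1
    exact hb1 h1
  exact hPQ (hPR.trans hQR.symm)

/-- **The reduction of S3871.** -/
theorem closed_of {G : Type*} [Group G] [Finite G] {p : ℕ} [hp : Fact p.Prime]
    (hT : ∀ [IsSimpleGroup G], (¬ ∀ a b : G, a * b = b * a) → p ≠ 2 → NB p G →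
      ∀ P : Sylow p G, IsCyclic (P : Subgroup G))
    (hnc : ¬ Cfsg.IsPClosed p G) (hsub : ∀ H : Subgroup G, H ≠ ⊤ → Cfsg.IsPClosed p ↥H)
    (hquo : ∀ (N : Subgroup G) [N.Normal], N ≠ ⊥ → Cfsg.IsPClosed p (G ⧸ N)) :
    (∀ P : Sylow p G, IsCyclic ↥(P : Subgroup G)) ∧
      ∀ P Q : Sylow p G, P ≠ Q → (P : Subgroup G) ⊓ (Q : Subgroup G) = ⊥ := by
  by_cases hs : IsSimpleGroup G
  · have hna : ¬ ∀ x y : G, x * y = y * x :=
      fun h => hnc (MinClosed.isPClosed_of_isMulCommutative h)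
    refine ⟨?_, S3870.sylow_ti hsub⟩
    have hp2 : p ≠ 2 := by
      rintro rfl
      exact false_two hnc hsub
    exact hT hna hp2 (NB.of_closed hsub)
  · obtain ⟨q, hq, hqp, hcard, -⟩ := MinClosed.nonsimple_structure hnc hsub hquo hs
    have h : ¬ p ^ 2 ∣ Nat.card G := by
      rw [hcard, pow_two]
      intro h
      have h1 : p ∣ q ^ orderOf (q : ZMod p) := Nat.dvd_of_mul_dvd_mul_left hp.out.pos h
      exact hqp ((Nat.prime_dvd_prime_iff_eq hp.out hq).mp (hp.out.dvd_of_dvd_pow h1)).symm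
    exact ⟨isCyclic_of_not_sq h, inf_eq_bot_of_not_sq h⟩

end Cfsg.Agent.H468
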