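import Cfsg.Agent.H468.NB
import Cfsg.Agent.H468.SqDvd

/-!
# Common part of the rows: reading off the primes, simple subgroups
-/

set_option autoImplicit false

namespace Cfsg.Agent.H468

open Subgroup

variable {G : Type*} [Group G]

theorem na_of_card {S : Type*} [Group S] [hS : IsSimpleGroup S] {n : ℕ} (hn : Nat.card S = n)
    (h : ¬ n.Prime) : ¬ ∀ a b : S, a * b = b * a := by
  intro hc
  have : IsMulCommutative S := ⟨⟨hc⟩⟩
  apply h
  rw [← hn]
  letI : CommGroup S := { (inferInstance : Group S) with mul_comm := hc }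
  exact IsSimpleGroup.prime_card

/-- A nonabelian simple group of smaller order divisible by `p` embeds in `G`. -/
theorem not_of_emb [Finite G] {p : ℕ} [hp : Fact p.Prime] {S : Type*} [Group S]
    [hS : IsSimpleGroup S] (f : S →* G) (hf : Function.Injective f) {n m : ℕ}
    (hn : Nat.card S = n) (hm : Nat.card G = m) (hnm : n < m) (hnp : ¬ n.Prime) (hpn : p ∣ n) :
    ¬ NB p G := by
  refine not_of_hom (S := S) (na_of_card hn hnp) f ?_ (by rw [hn]; exact hpn)
    (by rw [hn, hm]; exact hnm)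
  intro h
  obtain ⟨a, b, hab⟩ := hS.exists_pair_ne
  apply hab
  apply hf
  rw [h]
  rfl

/-- the same with a surjection from a proper subgroup, the kernel of order prime to `p` -/
theorem not_of_sur [Finite G] {p : ℕ} [hp : Fact p.Prime] {K : Subgroup G} {S : Type*} [Group S]
    [hS : IsSimpleGroup S] (f : K →* S) (hf : Function.Surjective f) {n m : ℕ}
    (hK : K ≠ ⊤)
    (hn : Nat.card S = n) (hker : Nat.card f.ker = m) (hm : ¬ p ∣ m) (hnp : ¬ n.Prime) (hpn : p ∣ n) :
    ¬ NB p G :=
  not_of_quot hK (na_of_card hn hnp) f hf (by rw [hker]; exact hm) (by rw [hn]; exact hpn)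

/-- Either the Sylow subgroups are cyclic, or `p` is one of the primes with a square in `|G|`. -/
theorem cyc_or [Finite G] {p : ℕ} [hp : Fact p.Prime] {n : ℕ} (hcard : Nat.card G = n)
    (l : List (ℕ × ℕ)) (hl : ∀ x ∈ l, x.1.Prime) (hnd : (l.map Prod.fst).Nodup)
    (hn : n = (l.map fun x => x.1 ^ x.2).prod) (P : Sylow p G) :
    IsCyclic (P : Subgroup G) ∨ ∃ x ∈ l, x.1 = p ∧ 2 ≤ x.2 := by
  by_cases h : p ^ 2 ∣ Nat.card G
  · right
    rw [hcard, hn] at h
    exact mem_of_sq_dvd hp.out l hl hnd h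
  · left
    exact isCyclic_of_not_sq h P

/-- From an involution with trivial `O(C(t))`. -/
theorem not_of_inv [Finite G] {p : ℕ} [hp : Fact p.Prime] (hp2 : p ≠ 2) {t : G} {n m : ℕ}
    (hG : Nat.card G = n) (hc : Nat.card (centralizer ({t} : Set G)) = m) (hmn : m < n)
    (hO : Cfsg.centralizerPPrimeCore 2 t = ⊥) (hd : p ∣ m) : ¬ NB p G := by
  refine not_of_core hp2 (t := t) ?_ hO (by rw [hc]; exact hd)
  intro h
  rw [h, card_top, hG] at hc
  omega

end Cfsg.Agent.H468
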