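import Cfsg.Agent.H468.RowCox
import Cfsg.Agent.CTwoTab.He
import Cfsg.Agent.CTwoTab.Ru
import Cfsg.Agent.CTwoTab.FiTF
import Cfsg.Agent.CTwoTab.Monster
import Cfsg.Agent.Ru127.Y
import Cfsg.Agent.HN.A12Group
import Cfsg.Agent.HN.XWords
import Cfsg.Agent.KFacts.He.Classes
import Cfsg.Agent.KFacts.He.Cent
import Cfsg.Agent.KFacts.Baby.Inst
import Cfsg.Agent.BM.KHAll
import Cfsg.Agent.MonsterX.ThOneClass
import Cfsg.Agent.S1682
import Cfsg.Agent.S0245
import Cfsg.Agent.S0246
import Cfsg.Agent.S0270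

/-!
# `NB p` fails in `He`, `Ru`, `HN`, `Th`, `Fi24'`, `B`, `M`
-/

set_option autoImplicit false

namespace Cfsg.Agent.H468

open Subgroup Cfsg

/-- a subgroup (given by an injection) with a simple quotient of order divisible by `p` and kernel
of order prime to `p` -/
theorem not_of_inj_sur {G H S : Type*} [Group G] [Finite G] [Group H]
    {p : ℕ} [hp : Fact p.Prime] [Group S] [hS : IsSimpleGroup S]
    (i : H →* G) (hi : Function.Injective i) (π : H →* S) (hπ : Function.Surjective π) {k : ℕ}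
    (hk : Nat.card π.ker = k)
    {n m : ℕ} (hn : Nat.card S = n) (hm : Nat.card G = m) (hnm : k * n < m) (hnp : ¬ n.Prime)
    (hpn : p ∣ n) (hpk : ¬ p ∣ k) : ¬ NB p G := by
  have hcH : Nat.card H = k * n := by
    rw [← Subgroup.card_mul_index π.ker, hk]
    congr 1
    rw [← hn, Subgroup.index_ker, MonoidHom.range_eq_top.mpr hπ, card_top]
  let e : H ≃* i.range := MonoidHom.ofInjective hi
  refine not_of_sur (G := G) (K := i.range) (π.comp e.symm.toMonoidHom)
    (hπ.comp e.symm.surjective) (m := k) ?_ hn ?_ hpk hnp hpn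
  · intro h
    rw [Nat.card_congr e.toEquiv, h, card_top, hm] at hcH
    omega
  · rw [← hk]
    have h1 : (π.comp e.symm.toMonoidHom).ker = π.ker.map e.toMonoidHom := by
      ext x
      rw [MonoidHom.mem_ker]
      constructor
      · intro hx
        exact ⟨e.symm x, hx, e.apply_symm_apply x⟩
      · rintro ⟨y, hy, rfl⟩
        change π (e.symm (e y)) = 1
        rw [e.symm_apply_apply]
        exact hy
    rw [h1]
    exact Nat.card_congr (π.ker.equivMapOfInjective _ e.injective).symm.toEquiv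

theorem nb_he {G : Type*} [Group G] [Finite G] {p : ℕ} [Fact p.Prime] (h : Spor.IsoHe G)
    (hp : p = 3 ∨ p = 5 ∨ p = 7) : ¬ NB p G := by
  have hcard := NotCT.Orders.he h
  obtain ⟨e⟩ := h
  have hf : Finite Spor.He := Finite.of_equiv G e.toEquiv
  have hcA : Nat.card Spor.He = 4030387200 := by rw [← hcard]; exact (Nat.card_congr e.toEquiv).symm
  intro hNB
  have hNB' := hNB.congr e
  revert hNB'
  have key : p = 3 ∨ p = 7 → ¬ NB p Spor.He := by
    intro hp
    refine not_of_inv (by rintro rfl; omega) hcA KFacts.He.Classes.card_centralizer (by norm_num)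
      CTwoTab.He.at_z.bal ?_
    rcases hp with rfl | rfl <;> norm_num
  rcases hp with rfl | rfl | rfl
  · exact key (Or.inl rfl)
  · obtain ⟨N, F, _, _, hN, hidx, hF, ⟨g⟩⟩ := S1682.result
    have := S0270.result (F := F) 2 le_rfl (by intro _; omega)
    have h1 := S0245.result hF 2
    have h2 := S0246.result hF 2 (by norm_num)
    have h4 : Nat.card (Matrix.symplecticGroup (Fin 2) F) = 979200 := by
      rw [h1]
      decide
    have h5 : Nat.gcd 2 (4 - 1) = 1 := by decide
    rw [h5] at h2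
    have h6 : Nat.card (PSp 2 F) = 979200 := by
      have h3 := Subgroup.card_mul_index (center ↥(Matrix.symplecticGroup (Fin 2) F))
      rw [h2, h4, one_mul] at h3
      exact h3
    exact not_of_inj_sur ((Subgroup.subtype _).comp ((Subgroup.subtype N).comp g.symm.toMonoidHom))
      ((subtype_injective _).comp ((subtype_injective _).comp g.symm.injective))
      (QuotientGroup.mk' (center ↥(Matrix.symplecticGroup (Fin 2) F)))
      (QuotientGroup.mk'_surjective _) (k := 1) (by rw [QuotientGroup.ker_mk']; exact h2) h6 hcA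
      (by norm_num) (by norm_num) (by norm_num) (by norm_num)
  · exact key (Or.inr rfl)

theorem nb_ru {G : Type*} [Group G] [Finite G] {p : ℕ} [Fact p.Prime] (h : Spor.IsoRu G)
    (hp : p = 3 ∨ p = 5) : ¬ NB p G := by
  have hcard := NotCT.Orders.ru h
  obtain ⟨C, -, -⟩ := CTwoTab.Ru.exists_core_sz h
  refine not_of_inv (by rintro rfl; omega) (t := C.z 1) hcard (Ru127.Sg.card_cent C) (by norm_num)
    (CTwoTab.Ru.at_z C).bal ?_
  rcases hp with rfl | rfl <;> norm_num

theorem nb_hn {G : Type*} [Group G] [Finite G] {p : ℕ} [Fact p.Prime] (h : Spor.IsoHN G)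
    (hp : p = 3 ∨ p = 5) : ¬ NB p G := by
  have hcard := NotCT.Orders.hn h
  obtain ⟨e⟩ := h
  have := HN.XWords.simple_HN
  obtain ⟨K, ⟨g⟩⟩ := HN.A12Group.exists_alternating
  have hs : IsSimpleGroup (alternatingGroup (Fin 12)) :=
    alternatingGroup.isSimpleGroup (by simp)
  refine not_of_iso e g (n := 239500800) ?_ hcard (by norm_num) (by norm_num) ?_
  · rw [nat_card_alternatingGroup, Nat.card_eq_fintype_card, Fintype.card_fin]
    decide
  · rcases hp with rfl | rfl <;> norm_num

theorem nb_th {G : Type*} [Group G] [Finite G] {p : ℕ} [Fact p.Prime] (h : Spor.IsoTh G)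
    (hp : p = 3 ∨ p = 5 ∨ p = 7) : ¬ NB p G := by
  have hcard := NotCT.Orders.th h
  obtain ⟨e⟩ := h
  have hf : Finite Spor.Th := Finite.of_equiv G e.toEquiv
  have hcA : Nat.card Spor.Th = 90745943887872000 := by
    rw [← hcard]; exact (Nat.card_congr e.toEquiv).symm
  intro hNB
  have hNB' := hNB.congr e
  revert hNB'
  obtain ⟨Q, hQn, hQ, -, hcQ, -⟩ := MonsterX.ThOneClass.struct
  have hC := MonsterX.ThOneClass.card_a
  refine not_of_cent (p := p) (r := 2) (by rintro rfl; omega) Nat.prime_two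
    (K := centralizer ({Th.IndexUpper.gTh 1} : Set Spor.Th)) (R := Q.map (Subgroup.subtype _)) ?_ ?_
    (map_subtype_le _) ?_ ?_ ?_
  · intro h
    rw [h, card_top, hcA] at hC
    omega
  · rw [hC]
    rcases hp with rfl | rfl | rfl <;> norm_num
  · rintro k hk _ ⟨t, ht, rfl⟩
    exact ⟨_, hQn.conj_mem t ht ⟨k, hk⟩, rfl⟩
  · exact (IsPGroup.of_card hQ).map _
  · intro c hc hcc
    refine ⟨⟨c, hc⟩, hcQ ?_, rfl⟩
    rw [mem_centralizer_iff]
    intro q hq
    apply Subtype.ext
    exact (hcc q ⟨q, hq, rfl⟩).symm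

theorem nb_b {G : Type*} [Group G] [Finite G] {p : ℕ} [Fact p.Prime] (h : Spor.IsoB G)
    (hp : p = 3 ∨ p = 5 ∨ p = 7) : ¬ NB p G := by
  have hcard := NotCT.Orders.b h
  obtain ⟨e⟩ := h
  have f := e.trans BM.KHAll.iso
  have hcA : Nat.card BabyM.Inst.M.G = 4154781481226426191177580544000000 := by
    rw [← hcard]; exact (Nat.card_congr f.toEquiv).symm
  have hfin := Finite.of_equiv G f.toEquiv
  intro hNB
  have hNB' := hNB.congr f
  revert hNB'
  have hL := KFacts.Baby.Inst.large BabyU.ClosLane.A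
  have hc : Nat.card (centralizer ({BabyU.ClosModel.zz BabyU.ClosLane.A} : Set BabyM.Inst.M.G)) =
      2 ^ 23 * 42305421312000 := by
    rw [Nat.card_congr (KFacts.Baby.Inst.eC BabyU.ClosLane.A).toEquiv,
      BabyU.ClosLane.A.grp.card_C]
  refine not_of_inv (by rintro rfl; omega) hcA hc (by norm_num) (CTwoTab.MonsterOf.at_large hL).bal ?_
  rcases hp with rfl | rfl | rfl <;> norm_num

theorem nb_fi24 {G : Type*} [Group G] [Finite G] {p : ℕ} [Fact p.Prime] (h : Spor.IsoFi24' G)
    (hp : p = 3 ∨ p = 5 ∨ p = 7) : ¬ NB p G := by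
  have hcard := NotCT.Orders.fi24 h
  obtain ⟨e⟩ := h
  have T := KFacts.FiTF.Tet.isTet (t := 0) (by norm_num)
  obtain ⟨P⟩ := R08.TetFi24A.exists_at T.ha T.hb T.nab T.ab
  have := S1696.result.1
  have hc := OddHalf.D4.Spor.FiTF.card_Cab P
  have hfi : Nat.card Spor.Fi22 = 64561751654400 := S1696.result.2
  have hk : Nat.card P.π.ker = 2 := by
    have h1 := Subgroup.card_mul_index P.π.ker
    rw [hc, Subgroup.index_ker, MonoidHom.range_eq_top.mpr P.lift.ext.surj, card_top, hfi] at h1
    omega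
  refine not_of_inj_sur (e.symm.toMonoidHom.comp
    (inclusion CTwoTab.FiTF.Cab_le)) (e.symm.injective.comp (inclusion_injective _))
    P.π P.lift.ext.surj hk hfi hcard (by norm_num) (by norm_num) ?_ ?_
  · rcases hp with rfl | rfl | rfl <;> norm_num
  · rcases hp with rfl | rfl | rfl <;> norm_num

theorem nb_m {G : Type*} [Group G] [Finite G] {p : ℕ} [Fact p.Prime] (h : Spor.IsoM G)
    (hp : p = 3 ∨ p = 5 ∨ p = 7 ∨ p = 11 ∨ p = 13) : ¬ NB p G := by
  have hcard := NotCT.Orders.m h
  obtain ⟨e⟩ := h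
  obtain ⟨f⟩ := MonsterP.Equiv.equiv
  have hc := CTwoTab.MonsterOf.cover_t MonsterU.Uncond.all
    (MonsterP.NodesGrp.prel MonsterU.NodesU.hyp)
    (MonsterP.NodesNe.ne MonsterU.NodesU.hyp) MonsterU.NodesU.conj_ten S1704.result
  have := S1704.result.1
  obtain ⟨h1, ⟨g⟩, -⟩ := hc
  refine not_of_center (e.trans f) h1 g (NotCT.Orders.b ⟨MulEquiv.refl _⟩) hcard (by norm_num)
    (by norm_num) ?_ ?_
  · rcases hp with rfl | rfl | rfl | rfl | rfl <;> norm_num
  · rcases hp with rfl | rfl | rfl | rfl | rfl <;> norm_num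

end Cfsg.Agent.H468
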