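import Cfsg.Agent.H468.RowJanko
import Cfsg.Agent.S1679
import Cfsg.Agent.S1710
import Cfsg.Agent.S1693
import Cfsg.Agent.S1686
import Cfsg.Agent.S1688
import Cfsg.Agent.S1055
import Cfsg.Agent.S1059
import Cfsg.Agent.S0243
import Cfsg.Agent.S0295
import Cfsg.Agent.S1696
import Cfsg.Agent.Fischer.Y322Iso

/-!
# `NB p` fails in `Suz`, `Ly`, `O'N`, `Fi22`, `Fi23`
-/

set_option autoImplicit false

namespace Cfsg.Agent.H468

open Subgroup Cfsg

/-- an embedded simple group, isomorphic to a given one -/
theorem not_of_iso {G A S : Type*} [Group G] [Finite G] [Group A] (e : G ≃* A)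
    {p : ℕ} [hp : Fact p.Prime]  [Group S] [hS : IsSimpleGroup S] {H : Subgroup A} (g : H ≃* S)
    {n m : ℕ} (hn : Nat.card S = n) (hm : Nat.card G = m) (hnm : n < m) (hnp : ¬ n.Prime)
    (hpn : p ∣ n) : ¬ NB p G :=
  not_of_emb (e.symm.toMonoidHom.comp ((Subgroup.subtype H).comp g.symm.toMonoidHom))
    (e.symm.injective.comp ((subtype_injective _).comp g.symm.injective)) hn hm hnm hnp hpn

theorem nb_suz {G : Type*} [Group G] [Finite G] {p : ℕ} [Fact p.Prime] (h : Spor.IsoSuz G)
    (hp : p = 3 ∨ p = 5) : ¬ NB p G := by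
  have hcard := NotCT.Orders.suz h
  obtain ⟨e⟩ := h
  obtain ⟨F, _, _, hF, ⟨g⟩⟩ := S1679.result
  have h2 : ∃ a : F, a ≠ 0 ∧ a ≠ 1 := by
    by_contra hcon
    push Not at hcon
    have h3 : Fintype.card F ≤ 2 := by
      classical
      calc Fintype.card F = (Finset.univ : Finset F).card := rfl
        _ ≤ ({0, 1} : Finset F).card := Finset.card_le_card (fun x _ => by
            by_cases hx : x = 0
            · simp [hx]
            · simp [hcon x hx])
        _ ≤ 2 := Finset.card_le_two
    omega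
  have := (S1055.result h2).1
  refine not_of_iso e g (S1059.result hF) hcard (by norm_num) (by norm_num) ?_
  rcases hp with rfl | rfl <;> norm_num

theorem nb_ly {G : Type*} [Group G] [Finite G] {p : ℕ} [Fact p.Prime] (h : Spor.IsoLy G)
    (hp : p = 3 ∨ p = 5) : ¬ NB p G := by
  have hcard := NotCT.Orders.ly h
  obtain ⟨e⟩ := h
  obtain ⟨F, _, _, hF, ⟨g⟩⟩ := S1710.result
  have h2 : ∃ a : F, a ≠ 0 ∧ a ≠ 1 := by
    by_contra hcon
    push Not at hcon
    have h3 : Fintype.card F ≤ 2 := by
      classical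
      calc Fintype.card F = (Finset.univ : Finset F).card := rfl
        _ ≤ ({0, 1} : Finset F).card := Finset.card_le_card (fun x _ => by
            by_cases hx : x = 0
            · simp [hx]
            · simp [hcon x hx])
        _ ≤ 2 := Finset.card_le_two
    omega
  have := (S1055.result h2).1
  refine not_of_iso e g (S1059.result hF) hcard (by norm_num) (by norm_num) ?_
  rcases hp with rfl | rfl <;> norm_num

theorem nb_on {G : Type*} [Group G] [Finite G] {p : ℕ} [Fact p.Prime] (h : Spor.IsoON G)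
    (hp : p = 3 ∨ p = 7) : ¬ NB p G := by
  have hcard := NotCT.Orders.on h
  obtain ⟨e⟩ := h
  obtain ⟨N, -, -, ⟨g⟩⟩ := S1693.result
  have h7 : Fact (Nat.Prime 7) := ⟨by norm_num⟩
  have := S0249.result (F := ZMod 7) 3 le_rfl
  have hn : Nat.card (Matrix.ProjectiveSpecialLinearGroup (Fin 3) (ZMod 7)) = 1876896 := by
    have h1 := S0243.result (F := ZMod 7) (q := 7) (ZMod.card 7) 3 (by norm_num)
    have h2 : Nat.gcd 3 (7 - 1) = 3 := by decide
    rw [h2, Fin.prod_univ_three] at h1
    generalize Nat.card (Matrix.ProjectiveSpecialLinearGroup (Fin 3) (ZMod 7)) = c at h1 ⊢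
    norm_num at h1
    omega
  refine not_of_emb (e.symm.toMonoidHom.comp ((Subgroup.subtype _).comp
    ((Subgroup.subtype N).comp g.symm.toMonoidHom)))
    (e.symm.injective.comp ((subtype_injective _).comp ((subtype_injective _).comp g.symm.injective)))
    hn hcard (by norm_num) (by norm_num) ?_
  rcases hp with rfl | rfl <;> norm_num

theorem nb_fi22 {G : Type*} [Group G] [Finite G] {p : ℕ} [Fact p.Prime] (h : Spor.IsoFi22 G)
    (hp : p = 3 ∨ p = 5) : ¬ NB p G := by
  have hcard := NotCT.Orders.fi22 h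
  obtain ⟨e⟩ := h
  obtain ⟨g⟩ := S1686.result
  have := S0295.result (F := ZMod 3) (by rw [ZMod.card]; decide) 3 le_rfl
  refine not_of_iso e g Fischer.Y322Iso.card_POmega hcard (by norm_num) (by norm_num) ?_
  rcases hp with rfl | rfl <;> norm_num

/-- a subgroup with a simple central quotient of order divisible by `p` and centre of order prime
to `p` -/
theorem not_of_center {G A S : Type*} [Group G] [Finite G] [Group A] (e : G ≃* A)
    {p : ℕ} [hp : Fact p.Prime] [Group S] [hS : IsSimpleGroup S] {H : Subgroup A} {k : ℕ}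
    (hc : Nat.card (center H) = k) (g : H ⧸ center H ≃* S)
    {n m : ℕ} (hn : Nat.card S = n) (hm : Nat.card G = m) (hnm : k * n < m) (hnp : ¬ n.Prime)
    (hpn : p ∣ n) (hpk : ¬ p ∣ k) : ¬ NB p G := by
  have hA : Finite A := Finite.of_equiv G e.toEquiv
  have hAm : Nat.card A = m := by rw [← hm]; exact (Nat.card_congr e.toEquiv).symm
  intro hNB
  have hcH : Nat.card H = k * n := by
    rw [← Subgroup.card_mul_index (center H), hc]
    congr 1
    rw [← hn]
    exact Nat.card_congr g.toEquiv
  refine not_of_sur (G := A) (K := H) (g.toMonoidHom.comp (QuotientGroup.mk' (center H)))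
    (g.surjective.comp (QuotientGroup.mk'_surjective _)) (m := k) ?_ hn ?_ hpk hnp hpn
    (hNB.congr e)
  · intro h
    rw [h, card_top, hAm] at hcH
    omega
  · have h1 : (g.toMonoidHom.comp (QuotientGroup.mk' (center H))).ker = center H := by
      ext x
      rw [MonoidHom.mem_ker]
      change g (QuotientGroup.mk' (center H) x) = 1 ↔ _
      rw [map_eq_one_iff g g.injective]
      exact QuotientGroup.eq_one_iff x
    rw [h1, hc]

theorem nb_fi23 {G : Type*} [Group G] [Finite G] {p : ℕ} [Fact p.Prime] (h : Spor.IsoFi23 G)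
    (hp : p = 3 ∨ p = 5) : ¬ NB p G := by
  have hcard := NotCT.Orders.fi23 h
  obtain ⟨e⟩ := h
  obtain ⟨hc, ⟨g⟩, -⟩ := S1688.result
  have := S1696.result.1
  refine not_of_center e hc g (NotCT.Orders.fi22 ⟨MulEquiv.refl _⟩) hcard (by norm_num)
    (by norm_num) ?_ ?_
  · rcases hp with rfl | rfl <;> norm_num
  · rcases hp with rfl | rfl <;> norm_num

end Cfsg.Agent.H468
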