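import Cfsg.Agent.H468.RowConway
import Cfsg.Agent.CTwoTab.JTwo
import Cfsg.Agent.Foote.Row.JThree
import Cfsg.Agent.S1711
import Cfsg.Agent.S0365

/-!
# `NB p` fails in the Janko groups
-/

set_option autoImplicit false

namespace Cfsg.Agent.H468

open Subgroup Cfsg

theorem not_of_sheet {G : Type*} [Group G] [Finite G] {p : ℕ} [Fact p.Prime] (hp2 : p ≠ 2) {z : G}
    {P R : Subgroup G} (S : OddHalf.D8.Sheet.SheetE z P R) {n m : ℕ}
    (hG : Nat.card G = n) (hc : Nat.card P = m) (hmn : m < n) (hd : p ∣ m) : ¬ NB p G := by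
  refine not_of_cent hp2 Nat.prime_two (K := P) (R := R) ?_ (by rw [hc]; exact hd) S.RP S.Rn S.R2
    S.cR
  intro h
  rw [h, card_top, hG] at hc
  omega

theorem nb_j2 {G : Type*} [Group G] [Finite G] {p : ℕ} [Fact p.Prime] (h : Spor.IsoJ2 G)
    (hp : p = 3 ∨ p = 5) : ¬ NB p G := by
  have hcard := NotCT.Orders.j2 h
  obtain ⟨t, u, Q, v, ρ, D⟩ := Cfsg.Agent.KFacts.J2.Facts.exists_dat_of h
  refine not_of_inv (by rintro rfl; omega) (t := t) hcard D.cardC (by norm_num)
    (CTwoTab.JTwo.at_t D).bal ?_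
  rcases hp with rfl | rfl <;> norm_num

theorem nb_j3 {G : Type*} [Group G] [Finite G] {p : ℕ} [Fact p.Prime] (h : Spor.IsoJ3 G)
    (hp : p = 3) : ¬ NB p G := by
  have hcard := NotCT.Orders.j3 h
  obtain ⟨z, Q, v, ρ, M, hc, -, S⟩ := Foote.Row.JThree.sheet' G h
  refine not_of_sheet (by rintro rfl; omega) S hcard hc (by norm_num) ?_
  subst hp
  norm_num

theorem nb_j4 {G : Type*} [Group G] [Finite G] {p : ℕ} [Fact p.Prime] (h : Spor.IsoJ4 G)
    (hp : p = 3 ∨ p = 11) : ¬ NB p G := by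
  have hcard := NotCT.Orders.j4 h
  obtain ⟨e⟩ := h
  obtain ⟨g⟩ := S1711.result
  have := S0365.result
  refine not_of_emb (e.symm.toMonoidHom.comp ((Subgroup.subtype _).comp g.symm.toMonoidHom))
    (e.symm.injective.comp ((subtype_injective _).comp g.symm.injective)) S0364.result hcard
    (by norm_num) (by norm_num) ?_
  rcases hp with rfl | rfl <;> norm_num

end Cfsg.Agent.H468
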