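import Cfsg.Agent.H468.RowBig
import Cfsg.Agent.H468.RowTits

/-!
# The sporadic groups and the Tits group: `NB p G`, `p` odd, implies that the Sylow `p`-subgroups
are cyclic
-/

set_option autoImplicit false

namespace Cfsg.Agent.H468

open Subgroup Cfsg

variable {G : Type*} [Group G] [Finite G] {p : ℕ} [hp : Fact p.Prime]

/-- the common shape of a row -/
theorem row {n : ℕ} (hcard : Nat.card G = n) (l : List (ℕ × ℕ)) (hl : ∀ x ∈ l, x.1.Prime)
    (hnd : (l.map Prod.fst).Nodup) (hn : n = (l.map fun x => x.1 ^ x.2).prod) (P : Sylow p G)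
    (h : ∀ x ∈ l, x.1 = p → 2 ≤ x.2 → False) : IsCyclic (P : Subgroup G) := by
  rcases cyc_or hcard l hl hnd hn P with h1 | ⟨x, hx, h1, h2⟩
  · exact h1
  · exact absurd (h x hx h1 h2) not_false

theorem tits (h2 : p ≠ 2) (hNB : NB p G) (h : Lie.IsoTits G) (P : Sylow p G) :
    IsCyclic (P : Subgroup G) := by
  refine row (NotCT.Orders.tits h) [(2, 11), (3, 3), (5, 2), (13, 1)] (by simp; norm_num)
    (by decide) (by norm_num) P ?_
  intro x hx h3 h4
  simp only [List.mem_cons, List.not_mem_nil, or_false] at hx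
  rcases hx with rfl | rfl | rfl | rfl <;> subst h3 <;> try omega
  · exact nb_tits h (Or.inl rfl) hNB
  · exact nb_tits h (Or.inr rfl) hNB

theorem spor_m11 (h2 : p ≠ 2) (hNB : NB p G) (h : Spor.IsoM11 G) (P : Sylow p G) :
    IsCyclic (P : Subgroup G) := by
  refine row (NotCT.Orders.m11 h)
    [(2, 4), (3, 2), (5, 1), (11, 1)]
    (by simp; norm_num) (by decide) (by norm_num) P ?_
  intro x hx h3 h4
  simp only [List.mem_cons, List.not_mem_nil, or_false] at hx
  rcases hx with rfl | rfl | rfl | rfl <;> subst h3 <;> try omega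
  exact nb_m11 h hNB

theorem spor_m12 (h2 : p ≠ 2) (hNB : NB p G) (h : Spor.IsoM12 G) (P : Sylow p G) :
    IsCyclic (P : Subgroup G) := by
  refine row (NotCT.Orders.m12 h)
    [(2, 6), (3, 3), (5, 1), (11, 1)]
    (by simp; norm_num) (by decide) (by norm_num) P ?_
  intro x hx h3 h4
  simp only [List.mem_cons, List.not_mem_nil, or_false] at hx
  rcases hx with rfl | rfl | rfl | rfl <;> subst h3 <;> try omega
  exact nb_m12 h hNB

theorem spor_m22 (h2 : p ≠ 2) (hNB : NB p G) (h : Spor.IsoM22 G) (P : Sylow p G) :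
    IsCyclic (P : Subgroup G) := by
  refine row (NotCT.Orders.m22 h)
    [(2, 7), (3, 2), (5, 1), (7, 1), (11, 1)]
    (by simp; norm_num) (by decide) (by norm_num) P ?_
  intro x hx h3 h4
  simp only [List.mem_cons, List.not_mem_nil, or_false] at hx
  rcases hx with rfl | rfl | rfl | rfl | rfl <;> subst h3 <;> try omega
  exact nb_m22 h hNB

theorem spor_m23 (h2 : p ≠ 2) (hNB : NB p G) (h : Spor.IsoM23 G) (P : Sylow p G) :
    IsCyclic (P : Subgroup G) := by
  refine row (NotCT.Orders.m23 h)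
    [(2, 7), (3, 2), (5, 1), (7, 1), (11, 1), (23, 1)]
    (by simp; norm_num) (by decide) (by norm_num) P ?_
  intro x hx h3 h4
  simp only [List.mem_cons, List.not_mem_nil, or_false] at hx
  rcases hx with rfl | rfl | rfl | rfl | rfl | rfl <;> subst h3 <;> try omega
  exact nb_m23 h hNB

theorem spor_m24 (h2 : p ≠ 2) (hNB : NB p G) (h : Spor.IsoM24 G) (P : Sylow p G) :
    IsCyclic (P : Subgroup G) := by
  refine row (NotCT.Orders.m24 h)
    [(2, 10), (3, 3), (5, 1), (7, 1), (11, 1), (23, 1)]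
    (by simp; norm_num) (by decide) (by norm_num) P ?_
  intro x hx h3 h4
  simp only [List.mem_cons, List.not_mem_nil, or_false] at hx
  rcases hx with rfl | rfl | rfl | rfl | rfl | rfl <;> subst h3 <;> try omega
  exact nb_m24 h hNB

theorem spor_j1 (h2 : p ≠ 2) (hNB : NB p G) (h : Spor.IsoJ1 G) (P : Sylow p G) :
    IsCyclic (P : Subgroup G) := by
  refine row (NotCT.Orders.j1 h)
    [(2, 3), (3, 1), (5, 1), (7, 1), (11, 1), (19, 1)]
    (by simp; norm_num) (by decide) (by norm_num) P ?_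
  intro x hx h3 h4
  simp only [List.mem_cons, List.not_mem_nil, or_false] at hx
  rcases hx with rfl | rfl | rfl | rfl | rfl | rfl <;> subst h3 <;> try omega

theorem spor_j2 (h2 : p ≠ 2) (hNB : NB p G) (h : Spor.IsoJ2 G) (P : Sylow p G) :
    IsCyclic (P : Subgroup G) := by
  refine row (NotCT.Orders.j2 h)
    [(2, 7), (3, 3), (5, 2), (7, 1)]
    (by simp; norm_num) (by decide) (by norm_num) P ?_
  intro x hx h3 h4
  simp only [List.mem_cons, List.not_mem_nil, or_false] at hx
  rcases hx with rfl | rfl | rfl | rfl <;> subst h3 <;> try omega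
  · exact nb_j2 h (Or.inl rfl) hNB
  · exact nb_j2 h (Or.inr rfl) hNB

theorem spor_j3 (h2 : p ≠ 2) (hNB : NB p G) (h : Spor.IsoJ3 G) (P : Sylow p G) :
    IsCyclic (P : Subgroup G) := by
  refine row (NotCT.Orders.j3 h)
    [(2, 7), (3, 5), (5, 1), (17, 1), (19, 1)]
    (by simp; norm_num) (by decide) (by norm_num) P ?_
  intro x hx h3 h4
  simp only [List.mem_cons, List.not_mem_nil, or_false] at hx
  rcases hx with rfl | rfl | rfl | rfl | rfl <;> subst h3 <;> try omega
  exact nb_j3 h rfl hNB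

theorem spor_j4 (h2 : p ≠ 2) (hNB : NB p G) (h : Spor.IsoJ4 G) (P : Sylow p G) :
    IsCyclic (P : Subgroup G) := by
  refine row (NotCT.Orders.j4 h)
    [(2, 21), (3, 3), (5, 1), (7, 1), (11, 3), (23, 1), (29, 1), (31, 1), (37, 1), (43, 1)]
    (by simp; norm_num) (by decide) (by norm_num) P ?_
  intro x hx h3 h4
  simp only [List.mem_cons, List.not_mem_nil, or_false] at hx
  rcases hx with rfl | rfl | rfl | rfl | rfl | rfl | rfl | rfl | rfl | rfl <;> subst h3 <;> try omega
  · exact nb_j4 h (Or.inl rfl) hNB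
  · exact nb_j4 h (Or.inr rfl) hNB

theorem spor_hs (h2 : p ≠ 2) (hNB : NB p G) (h : Spor.IsoHS G) (P : Sylow p G) :
    IsCyclic (P : Subgroup G) := by
  refine row (NotCT.Orders.hs h)
    [(2, 9), (3, 2), (5, 3), (7, 1), (11, 1)]
    (by simp; norm_num) (by decide) (by norm_num) P ?_
  intro x hx h3 h4
  simp only [List.mem_cons, List.not_mem_nil, or_false] at hx
  rcases hx with rfl | rfl | rfl | rfl | rfl <;> subst h3 <;> try omega
  · exact nb_hs h (Or.inl rfl) hNB
  · exact nb_hs h (Or.inr rfl) hNB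

theorem spor_he (h2 : p ≠ 2) (hNB : NB p G) (h : Spor.IsoHe G) (P : Sylow p G) :
    IsCyclic (P : Subgroup G) := by
  refine row (NotCT.Orders.he h)
    [(2, 10), (3, 3), (5, 2), (7, 3), (17, 1)]
    (by simp; norm_num) (by decide) (by norm_num) P ?_
  intro x hx h3 h4
  simp only [List.mem_cons, List.not_mem_nil, or_false] at hx
  rcases hx with rfl | rfl | rfl | rfl | rfl <;> subst h3 <;> try omega
  · exact nb_he h (Or.inl rfl) hNB
  · exact nb_he h (Or.inr (Or.inl rfl)) hNB
  · exact nb_he h (Or.inr (Or.inr rfl)) hNB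

theorem spor_mcl (h2 : p ≠ 2) (hNB : NB p G) (h : Spor.IsoMcL G) (P : Sylow p G) :
    IsCyclic (P : Subgroup G) := by
  refine row (NotCT.Orders.mcl h)
    [(2, 7), (3, 6), (5, 3), (7, 1), (11, 1)]
    (by simp; norm_num) (by decide) (by norm_num) P ?_
  intro x hx h3 h4
  simp only [List.mem_cons, List.not_mem_nil, or_false] at hx
  rcases hx with rfl | rfl | rfl | rfl | rfl <;> subst h3 <;> try omega
  · exact nb_mcl h (Or.inl rfl) hNB
  · exact nb_mcl h (Or.inr rfl) hNB

theorem spor_suz (h2 : p ≠ 2) (hNB : NB p G) (h : Spor.IsoSuz G) (P : Sylow p G) :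
    IsCyclic (P : Subgroup G) := by
  refine row (NotCT.Orders.suz h)
    [(2, 13), (3, 7), (5, 2), (7, 1), (11, 1), (13, 1)]
    (by simp; norm_num) (by decide) (by norm_num) P ?_
  intro x hx h3 h4
  simp only [List.mem_cons, List.not_mem_nil, or_false] at hx
  rcases hx with rfl | rfl | rfl | rfl | rfl | rfl <;> subst h3 <;> try omega
  · exact nb_suz h (Or.inl rfl) hNB
  · exact nb_suz h (Or.inr rfl) hNB

theorem spor_ly (h2 : p ≠ 2) (hNB : NB p G) (h : Spor.IsoLy G) (P : Sylow p G) :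
    IsCyclic (P : Subgroup G) := by
  refine row (NotCT.Orders.ly h)
    [(2, 8), (3, 7), (5, 6), (7, 1), (11, 1), (31, 1), (37, 1), (67, 1)]
    (by simp; norm_num) (by decide) (by norm_num) P ?_
  intro x hx h3 h4
  simp only [List.mem_cons, List.not_mem_nil, or_false] at hx
  rcases hx with rfl | rfl | rfl | rfl | rfl | rfl | rfl | rfl <;> subst h3 <;> try omega
  · exact nb_ly h (Or.inl rfl) hNB
  · exact nb_ly h (Or.inr rfl) hNB

theorem spor_on (h2 : p ≠ 2) (hNB : NB p G) (h : Spor.IsoON G) (P : Sylow p G) :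
    IsCyclic (P : Subgroup G) := by
  refine row (NotCT.Orders.on h)
    [(2, 9), (3, 4), (5, 1), (7, 3), (11, 1), (19, 1), (31, 1)]
    (by simp; norm_num) (by decide) (by norm_num) P ?_
  intro x hx h3 h4
  simp only [List.mem_cons, List.not_mem_nil, or_false] at hx
  rcases hx with rfl | rfl | rfl | rfl | rfl | rfl | rfl <;> subst h3 <;> try omega
  · exact nb_on h (Or.inl rfl) hNB
  · exact nb_on h (Or.inr rfl) hNB

theorem spor_ru (h2 : p ≠ 2) (hNB : NB p G) (h : Spor.IsoRu G) (P : Sylow p G) :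
    IsCyclic (P : Subgroup G) := by
  refine row (NotCT.Orders.ru h)
    [(2, 14), (3, 3), (5, 3), (7, 1), (13, 1), (29, 1)]
    (by simp; norm_num) (by decide) (by norm_num) P ?_
  intro x hx h3 h4
  simp only [List.mem_cons, List.not_mem_nil, or_false] at hx
  rcases hx with rfl | rfl | rfl | rfl | rfl | rfl <;> subst h3 <;> try omega
  · exact nb_ru h (Or.inl rfl) hNB
  · exact nb_ru h (Or.inr rfl) hNB

theorem spor_co1 (h2 : p ≠ 2) (hNB : NB p G) (h : Spor.IsoCo1 G) (P : Sylow p G) :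
    IsCyclic (P : Subgroup G) := by
  refine row (NotCT.Orders.co1 h)
    [(2, 21), (3, 9), (5, 4), (7, 2), (11, 1), (13, 1), (23, 1)]
    (by simp; norm_num) (by decide) (by norm_num) P ?_
  intro x hx h3 h4
  simp only [List.mem_cons, List.not_mem_nil, or_false] at hx
  rcases hx with rfl | rfl | rfl | rfl | rfl | rfl | rfl <;> subst h3 <;> try omega
  · exact nb_co1 h (Or.inl rfl) hNB
  · exact nb_co1 h (Or.inr (Or.inl rfl)) hNB
  · exact nb_co1 h (Or.inr (Or.inr rfl)) hNB

theorem spor_co2 (h2 : p ≠ 2) (hNB : NB p G) (h : Spor.IsoCo2 G) (P : Sylow p G) :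
    IsCyclic (P : Subgroup G) := by
  refine row (NotCT.Orders.co2 h)
    [(2, 18), (3, 6), (5, 3), (7, 1), (11, 1), (23, 1)]
    (by simp; norm_num) (by decide) (by norm_num) P ?_
  intro x hx h3 h4
  simp only [List.mem_cons, List.not_mem_nil, or_false] at hx
  rcases hx with rfl | rfl | rfl | rfl | rfl | rfl <;> subst h3 <;> try omega
  · exact nb_co2 h (Or.inl rfl) hNB
  · exact nb_co2 h (Or.inr rfl) hNB

theorem spor_co3 (h2 : p ≠ 2) (hNB : NB p G) (h : Spor.IsoCo3 G) (P : Sylow p G) :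
    IsCyclic (P : Subgroup G) := by
  refine row (NotCT.Orders.co3 h)
    [(2, 10), (3, 7), (5, 3), (7, 1), (11, 1), (23, 1)]
    (by simp; norm_num) (by decide) (by norm_num) P ?_
  intro x hx h3 h4
  simp only [List.mem_cons, List.not_mem_nil, or_false] at hx
  rcases hx with rfl | rfl | rfl | rfl | rfl | rfl <;> subst h3 <;> try omega
  · exact nb_co3 h (Or.inl rfl) hNB
  · exact nb_co3 h (Or.inr rfl) hNB

theorem spor_fi22 (h2 : p ≠ 2) (hNB : NB p G) (h : Spor.IsoFi22 G) (P : Sylow p G) :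
    IsCyclic (P : Subgroup G) := by
  refine row (NotCT.Orders.fi22 h)
    [(2, 17), (3, 9), (5, 2), (7, 1), (11, 1), (13, 1)]
    (by simp; norm_num) (by decide) (by norm_num) P ?_
  intro x hx h3 h4
  simp only [List.mem_cons, List.not_mem_nil, or_false] at hx
  rcases hx with rfl | rfl | rfl | rfl | rfl | rfl <;> subst h3 <;> try omega
  · exact nb_fi22 h (Or.inl rfl) hNB
  · exact nb_fi22 h (Or.inr rfl) hNB

theorem spor_fi23 (h2 : p ≠ 2) (hNB : NB p G) (h : Spor.IsoFi23 G) (P : Sylow p G) :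
    IsCyclic (P : Subgroup G) := by
  refine row (NotCT.Orders.fi23 h)
    [(2, 18), (3, 13), (5, 2), (7, 1), (11, 1), (13, 1), (17, 1), (23, 1)]
    (by simp; norm_num) (by decide) (by norm_num) P ?_
  intro x hx h3 h4
  simp only [List.mem_cons, List.not_mem_nil, or_false] at hx
  rcases hx with rfl | rfl | rfl | rfl | rfl | rfl | rfl | rfl <;> subst h3 <;> try omega
  · exact nb_fi23 h (Or.inl rfl) hNB
  · exact nb_fi23 h (Or.inr rfl) hNB

theorem spor_fi24 (h2 : p ≠ 2) (hNB : NB p G) (h : Spor.IsoFi24' G) (P : Sylow p G) :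
    IsCyclic (P : Subgroup G) := by
  refine row (NotCT.Orders.fi24 h)
    [(2, 21), (3, 16), (5, 2), (7, 3), (11, 1), (13, 1), (17, 1), (23, 1), (29, 1)]
    (by simp; norm_num) (by decide) (by norm_num) P ?_
  intro x hx h3 h4
  simp only [List.mem_cons, List.not_mem_nil, or_false] at hx
  rcases hx with rfl | rfl | rfl | rfl | rfl | rfl | rfl | rfl | rfl <;> subst h3 <;> try omega
  · exact nb_fi24 h (Or.inl rfl) hNB
  · exact nb_fi24 h (Or.inr (Or.inl rfl)) hNB
  · exact nb_fi24 h (Or.inr (Or.inr rfl)) hNB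

theorem spor_th (h2 : p ≠ 2) (hNB : NB p G) (h : Spor.IsoTh G) (P : Sylow p G) :
    IsCyclic (P : Subgroup G) := by
  refine row (NotCT.Orders.th h)
    [(2, 15), (3, 10), (5, 3), (7, 2), (13, 1), (19, 1), (31, 1)]
    (by simp; norm_num) (by decide) (by norm_num) P ?_
  intro x hx h3 h4
  simp only [List.mem_cons, List.not_mem_nil, or_false] at hx
  rcases hx with rfl | rfl | rfl | rfl | rfl | rfl | rfl <;> subst h3 <;> try omega
  · exact nb_th h (Or.inl rfl) hNB
  · exact nb_th h (Or.inr (Or.inl rfl)) hNB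
  · exact nb_th h (Or.inr (Or.inr rfl)) hNB

theorem spor_hn (h2 : p ≠ 2) (hNB : NB p G) (h : Spor.IsoHN G) (P : Sylow p G) :
    IsCyclic (P : Subgroup G) := by
  refine row (NotCT.Orders.hn h)
    [(2, 14), (3, 6), (5, 6), (7, 1), (11, 1), (19, 1)]
    (by simp; norm_num) (by decide) (by norm_num) P ?_
  intro x hx h3 h4
  simp only [List.mem_cons, List.not_mem_nil, or_false] at hx
  rcases hx with rfl | rfl | rfl | rfl | rfl | rfl <;> subst h3 <;> try omega
  · exact nb_hn h (Or.inl rfl) hNB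
  · exact nb_hn h (Or.inr rfl) hNB

theorem spor_b (h2 : p ≠ 2) (hNB : NB p G) (h : Spor.IsoB G) (P : Sylow p G) :
    IsCyclic (P : Subgroup G) := by
  refine row (NotCT.Orders.b h)
    [(2, 41), (3, 13), (5, 6), (7, 2), (11, 1), (13, 1), (17, 1), (19, 1), (23, 1), (31, 1), (47, 1)]
    (by simp; norm_num) (by decide) (by norm_num) P ?_
  intro x hx h3 h4
  simp only [List.mem_cons, List.not_mem_nil, or_false] at hx
  rcases hx with rfl | rfl | rfl | rfl | rfl | rfl | rfl | rfl | rfl | rfl | rfl <;> subst h3 <;> try omega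
  · exact nb_b h (Or.inl rfl) hNB
  · exact nb_b h (Or.inr (Or.inl rfl)) hNB
  · exact nb_b h (Or.inr (Or.inr rfl)) hNB

theorem spor_m (h2 : p ≠ 2) (hNB : NB p G) (h : Spor.IsoM G) (P : Sylow p G) :
    IsCyclic (P : Subgroup G) := by
  refine row (NotCT.Orders.m h)
    [(2, 46), (3, 20), (5, 9), (7, 6), (11, 2), (13, 3), (17, 1), (19, 1), (23, 1), (29, 1), (31, 1), (41, 1), (47, 1), (59, 1), (71, 1)]
    (by simp; norm_num) (by decide) (by norm_num) P ?_
  intro x hx h3 h4
  simp only [List.mem_cons, List.not_mem_nil, or_false] at hx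
  rcases hx with rfl | rfl | rfl | rfl | rfl | rfl | rfl | rfl | rfl | rfl | rfl | rfl | rfl | rfl | rfl <;> subst h3 <;> try omega
  · exact nb_m h (Or.inl rfl) hNB
  · exact nb_m h (Or.inr (Or.inl rfl)) hNB
  · exact nb_m h (Or.inr (Or.inr (Or.inl rfl))) hNB
  · exact nb_m h (Or.inr (Or.inr (Or.inr (Or.inl rfl)))) hNB
  · exact nb_m h (Or.inr (Or.inr (Or.inr (Or.inr rfl)))) hNB

/-- **The sporadic groups.** -/
theorem spor (h2 : p ≠ 2) (hNB : NB p G) (h : IsSporadicGroup G) (P : Sylow p G) :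
    IsCyclic (P : Subgroup G) := by
  rcases h with h | h | h | h | h | h | h | h | h | h | h | h | h | h | h | h | h | h | h | h | h | h | h | h | h | h
  · exact spor_m11 h2 hNB h P
  · exact spor_m12 h2 hNB h P
  · exact spor_m22 h2 hNB h P
  · exact spor_m23 h2 hNB h P
  · exact spor_m24 h2 hNB h P
  · exact spor_j1 h2 hNB h P
  · exact spor_j2 h2 hNB h P
  · exact spor_j3 h2 hNB h P
  · exact spor_j4 h2 hNB h P
  · exact spor_co1 h2 hNB h P
  · exact spor_co2 h2 hNB h P
  · exact spor_co3 h2 hNB h P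
  · exact spor_mcl h2 hNB h P
  · exact spor_hs h2 hNB h P
  · exact spor_suz h2 hNB h P
  · exact spor_he h2 hNB h P
  · exact spor_ru h2 hNB h P
  · exact spor_on h2 hNB h P
  · exact spor_ly h2 hNB h P
  · exact spor_fi22 h2 hNB h P
  · exact spor_fi23 h2 hNB h P
  · exact spor_fi24 h2 hNB h P
  · exact spor_hn h2 hNB h P
  · exact spor_th h2 hNB h P
  · exact spor_b h2 hNB h P
  · exact spor_m h2 hNB h P

end Cfsg.Agent.H468
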